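import Groth.Agent.H5.Dual.RpushDim
import Groth.Agent.H5.HomVan.Basic

/-!
# The right adjoint of `Rf_*` on `D_QCoh` is bounded below
-/

set_option autoImplicit false
set_option linter.style.haveILetI false

universe u

open CategoryTheory Category Limits Pretriangulated DerivedCategory AlgebraicGeometry

attribute [local instance] HasDerivedCategory.standard

namespace Groth.Agent.H5.Dual.AdjBound

variable {X Y : Scheme.{u}}

lemma isZero_of_isIso_of_eq_zero {C : Type*} [Category C] [HasZeroMorphisms C] {A B : C}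
    (g : A ⟶ B) [IsIso g] (h : g = 0) : IsZero B := by
  rw [IsZero.iff_id_eq_zero]
  exact (IsIso.inv_hom_id g).symm.trans ((congrArg (fun k => inv g ≫ k) h).trans comp_zero)

theorem main (f : X ⟶ Y) [QuasiCompact f] [QuasiSeparated f] [CompactSpace Y] [DCoh.HasRpush f]
    (h : ∀ K : DCoh.D X, DCoh.IsQCohD K → DCoh.IsQCohD ((DCoh.Rpush f).obj K))
    (a : DCoh.DQCoh Y ⥤ DCoh.DQCoh X)
    (adj : (ObjectProperty.lift DCoh.IsQCohD (ObjectProperty.ι DCoh.IsQCohD ⋙ DCoh.Rpush f)
      (fun K => h K.obj K.property)) ⊣ a) :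
    ∃ N : ℕ, ∀ (K : DCoh.DQCoh Y) (c : ℤ), (∀ i : ℤ, i ≤ c → IsZero (DCoh.HD K.obj i)) →
      ∀ i : ℤ, i ≤ c - N → IsZero (DCoh.HD (a.obj K).obj i) := by
  obtain ⟨N, hN⟩ := Groth.Agent.H5.Dual.RpushDim.exists_bound f
  refine ⟨N, fun K c hK i hi => ?_⟩
  let M := a.obj K
  let n : ℤ := c - N
  let L : DCoh.D X := (TStructure.t.truncLT (n + 1)).obj M.obj
  have hL : DCoh.IsQCohD L :=
    Groth.Agent.H5.HomVan.Basic.isQCohD_truncLT M.obj M.property (n + 1)
  let L' : DCoh.DQCoh X := ⟨L, hL⟩
  let ι' : L' ⟶ M := ObjectProperty.homMk ((TStructure.t.truncLTι (n + 1)).app M.obj)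
  haveI hLle : L.IsLE n := by
    have : TStructure.t.IsLE ((TStructure.t.truncLT (n + 1)).obj M.obj) (n + 1 - 1) :=
      inferInstance
    simpa using this
  haveI hRle : ((DCoh.Rpush f).obj L).IsLE c := by
    rw [isLE_iff]
    intro m hm
    exact hN L hL n (fun j hj => isZero_of_isLE L n j hj) m (by simp only [n]; omega)
  haveI hKge : K.obj.IsGE (c + 1) := by
    rw [isGE_iff]
    intro j hj
    exact hK j (by omega)
  have hzero : ∀ g : (ObjectProperty.lift DCoh.IsQCohD
      (ObjectProperty.ι DCoh.IsQCohD ⋙ DCoh.Rpush f)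
      (fun K => h K.obj K.property)).obj L' ⟶ K, g = 0 := by
    intro g
    apply ObjectProperty.hom_ext
    exact TStructure.t.zero_of_isLE_of_isGE g.hom c (c + 1) (by omega) hRle hKge
  have hι : ι' = 0 := by
    apply (adj.homEquiv L' K).symm.injective
    rw [hzero ((adj.homEquiv L' K).symm ι'), hzero ((adj.homEquiv L' K).symm 0)]
  have h0 : (TStructure.t.truncLTι (n + 1)).app M.obj = 0 := by
    have := congrArg (fun g => g.hom) hι
    exact this
  haveI := Groth.Agent.H45.isIso_homologyMap_truncLTι M.obj (n + 1) i (by simp only [n]; omega)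
  exact isZero_of_isIso_of_eq_zero
    ((homologyFunctor X.Modules i).map ((TStructure.t.truncLTι (n + 1)).app M.obj))
    (by rw [h0, Functor.map_zero])

end Groth.Agent.H5.Dual.AdjBound
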