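import Groth.Agent.H16.RpushQCoh
import Groth.Agent.H33.Supp.Basic

/-!
# `Rf_*` has finite cohomological dimension on `D_QCoh` (qcqs `f`, quasi-compact base)
-/

set_option autoImplicit false
set_option linter.style.haveILetI false

universe u

open CategoryTheory Category Limits Pretriangulated DerivedCategory AlgebraicGeometry
  Scheme.Modules

attribute [local instance] HasDerivedCategory.standard

namespace Groth.Agent.H5.Dual.RpushDim

variable {X Y : Scheme.{u}}

/-- a module all of whose stalks vanish is zero -/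
theorem isZero_of_subsingleton_stalks (M : X.Modules)
    (h : ∀ x : X, Subsingleton (M.presheaf.stalk x)) : IsZero M := by
  rw [IsZero.iff_id_eq_zero]
  refine Scheme.Modules.hom_ext _ _ fun O => ?_
  ext s
  change (show Γ(M, O) from s) = 0
  refine TopCat.Presheaf.section_ext ⟨M.presheaf, M.isSheaf⟩ _ _ _ fun y hy => ?_
  exact (h y).elim _ _

/-- a module which restricts to zero on the members of an open cover is zero -/
theorem isZero_of_isZero_restrict (M : X.Modules) (s : Set X.Opens) (hs : ⨆ W ∈ s, W = ⊤)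
    (h : ∀ W ∈ s, IsZero ((restrictFunctor W.ι).obj M)) : IsZero M := by
  apply isZero_of_subsingleton_stalks
  intro x
  have hx : x ∈ (⨆ W ∈ s, W : X.Opens) := by rw [hs]; trivial
  simp only [TopologicalSpace.Opens.mem_iSup] at hx
  obtain ⟨W, hW, hxW⟩ := hx
  exact Groth.Agent.H33.Supp.subsingleton_stalk_of_isZero_restrictOpen M W (h W hW) hxW

/-- **Finite cohomological dimension of `Rf_*` on `D_QCoh`.** -/
theorem exists_bound (f : X ⟶ Y) [QuasiCompact f] [QuasiSeparated f] [CompactSpace Y]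
    [DCoh.HasRpush f] :
    ∃ N : ℕ, ∀ (E : DCoh.D X), DCoh.IsQCohD E → ∀ b : ℤ,
      (∀ i : ℤ, b < i → IsZero (DCoh.HD E i)) → ∀ m : ℤ, b + N < m →
        IsZero (DCoh.HD ((DCoh.Rpush f).obj E) m) := by
  classical
  obtain ⟨s, hsfin, hs⟩ := (isCompact_iff_finite_and_eq_biUnion_affineOpens
    (X := Y) (U := ⊤)).1 (by simpa using isCompact_univ)
  have key : ∀ V : Y.affineOpens, ∃ N₀ : ℕ, 0 < N₀ ∧ ∀ (h : Γ(Y, V.1)) (G : X.Modules),
      G.IsQuasicoherent → ∀ p : ℕ, N₀ ≤ p →
      Groth.Agent.Lead.Coh.HVanish (T := X) (Coh.toAb G) p (f ⁻¹ᵁ (Y.basicOpen h)) :=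
    fun V => Groth.Agent.H16.RpushQCohLocal.exists_uniform_bound_affine f V.1 V.2
  choose N₀ hN₀ hvan using key
  refine ⟨hsfin.toFinset.sup N₀, fun E hE b hb m hm => ?_⟩
  refine isZero_of_isZero_restrict _ ((fun V : Y.affineOpens => V.1) '' s) ?_ ?_
  · rw [hs]
    apply le_antisymm
    · refine iSup₂_le fun W hW => ?_
      obtain ⟨V, hV, rfl⟩ := hW
      exact le_iSup₂ (f := fun (i : Y.affineOpens) (_ : i ∈ s) => (i : Y.Opens)) V hV
    · refine iSup₂_le fun V hV => ?_
      exact le_iSup₂ (f := fun (W : Y.Opens) (_ : W ∈ (fun V : Y.affineOpens => V.1) '' s) => W)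
        V.1 ⟨V, hV, rfl⟩
  · rintro W ⟨V, hV, rfl⟩
    have hle : N₀ V ≤ hsfin.toFinset.sup N₀ :=
      Finset.le_sup (f := N₀) (hsfin.mem_toFinset.2 hV)
    exact Groth.Agent.H16.RpushQCohLocal.isZero_restrict_HD_Rpush f V.1 V.2 (N₀ V) (hN₀ V)
      (hvan V) E hE b hb m (by
        have : (N₀ V : ℤ) ≤ (hsfin.toFinset.sup N₀ : ℕ) := by exact_mod_cast hle
        omega)

end Groth.Agent.H5.Dual.RpushDim
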